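import Cfsg.Agent.H98.ExtField.Overgroup

/-!
An alternating form over `K` and its trace form over `F`: isometries that are linear over `K`.
-/

set_option autoImplicit false

namespace Cfsg.Agent.H98.ExtSp

open Module Cfsg.Agent.H98.ExtField

variable {F : Type*} [Field F] {K : Type*} [Field K] [Algebra F K]
  {V : Type*} [AddCommGroup V] [Module F V] [Module K V] [IsScalarTower F K V]

/-- A nondegenerate alternating `K`-form and a functional on `K`. -/
structure Form (F K V : Type*) [Field F] [Field K] [Algebra F K] [AddCommGroup V] [Module F V] [Module K V]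
    [IsScalarTower F K V] where
  B : V →ₗ[K] V →ₗ[K] K
  alt : ∀ x, B x x = 0
  nd : ∀ x, (∀ y, B x y = 0) → x = 0
  τ : K →ₗ[F] F
  τ_ne : τ ≠ 0

namespace Form

variable (S : Form F K V)

theorem swap (x y : V) : S.B x y = -S.B y x := by
  have h := S.alt (x + y)
  simp only [map_add, LinearMap.add_apply, S.alt, zero_add, add_zero] at h
  exact eq_neg_of_add_eq_zero_right h

theorem symm_zero {x y : V} (h : S.B x y = 0) : S.B y x = 0 := by rw [S.swap, h, neg_zero]

/-- The trace form. -/
def f (x y : V) : F := S.τ (S.B x y)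

/-- `x ↦ f x v` as a functional. -/
def fL (v : V) : V →ₗ[F] F := S.τ ∘ₗ (S.B.flip v).restrictScalars F

@[simp] theorem fL_apply (v x : V) : S.fL v x = S.f x v := rfl

theorem f_smul_right (c : F) (x y : V) : S.f x (c • y) = c * S.f x y := by
  simp [f, LinearMap.map_smul_of_tower]

theorem f_add_right (x y z : V) : S.f x (y + z) = S.f x y + S.f x z := by simp [f]

theorem f_add_left (x y z : V) : S.f (x + y) z = S.f x z + S.f y z := by simp [f]

theorem f_self (x : V) : S.f x x = 0 := by simp [f, S.alt]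

theorem f_swap (x y : V) : S.f x y = -S.f y x := by rw [f, f, S.swap, map_neg]

theorem f_smul_K (k : K) (x y : V) : S.f (k • x) y = S.f x (k • y) := by
  simp [f]

theorem eq_zero_of_f {k : K} (h : ∀ s : K, S.τ (s * k) = 0) : k = 0 := by
  by_contra hk
  refine S.τ_ne (LinearMap.ext fun a => ?_)
  have := h (a * k⁻¹)
  rwa [mul_assoc, inv_mul_cancel₀ hk, mul_one] at this

theorem B_eq_zero_of_f {x y : V} (h : ∀ s : K, S.f x (s • y) = 0) : S.B x y = 0 :=
  S.eq_zero_of_f fun s => by simpa [f] using h s

theorem exists_f_one {v : V} (hv : v ≠ 0) : ∃ x, S.f x v = 1 := by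
  obtain ⟨x, hx⟩ : ∃ x, S.f x v ≠ 0 := by
    by_contra hc
    push Not at hc
    exact hv (S.nd v fun y => S.symm_zero (S.eq_zero_of_f fun s => by simpa [f] using hc (s • y)))
  exact ⟨(S.f x v)⁻¹ • x, by simp [f, LinearMap.map_smul_of_tower] at hx ⊢; exact inv_mul_cancel₀ hx⟩

/-- `M` contains every `K`-linear isometry and consists of isometries of the trace form. -/
structure Over (M : Subgroup (Module.End F V)ˣ) : Prop where
  contains : ∀ u : (Module.End F V)ˣ,
    (∀ (k : K) (x : V), (u : Module.End F V) (k • x) = k • (u : Module.End F V) x) →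
    (∀ x y, S.B ((u : Module.End F V) x) ((u : Module.End F V) y) = S.B x y) → u ∈ M
  iso : ∀ u ∈ M, ∀ x y, S.f ((u : Module.End F V) x) ((u : Module.End F V) y) = S.f x y

variable {S} {M : Subgroup (Module.End F V)ˣ}

theorem Over.mn_linear (hM : S.Over M) (N : V →ₗ[K] V) (hN : ∀ x, N (N x) = 0)
    (h1 : ∀ x y, S.B (N x) y + S.B x (N y) = 0) : MN M (N.restrictScalars F) := by
  have h2 : N.restrictScalars F * N.restrictScalars F = 0 := LinearMap.ext fun x => hN x
  have h3 : ∀ x y, S.B (N x) (N y) = 0 := fun x y => by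
    have := h1 x (N y)
    simpa [hN] using this
  refine ⟨h2, ⟨1 + N.restrictScalars F, 1 - N.restrictScalars F, ?_, ?_⟩, ?_, rfl⟩
  · rw [add_mul, one_mul, mul_sub, mul_one, h2]; abel
  · rw [sub_mul, one_mul, mul_add, mul_one, h2]; abel
  · refine hM.contains _ (fun k x => by simp [smul_add]) fun x y => ?_
    simp only [LinearMap.add_apply, Module.End.one_apply, LinearMap.restrictScalars_apply, map_add, h3]
    linear_combination h1 x y

variable (S) in
/-- The endomorphism of a symplectic transvection over `K`. -/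
def trans (c : V) (k : K) : V →ₗ[K] V := (k • S.B.flip c).smulRight c

theorem trans_apply (c : V) (k : K) (x : V) : S.trans c k x = (k * S.B x c) • c := rfl

theorem Over.mn_trans (hM : S.Over M) (c : V) (k : K) : MN M ((S.trans c k).restrictScalars F) := by
  refine hM.mn_linear _ (fun x => by simp [trans_apply, S.alt]) fun x y => ?_
  simp [trans_apply, S.swap y c]
  ring

variable (S) in
/-- The endomorphism of a Siegel transformation over `K`. -/
def siegel (w z : V) (k : K) : V →ₗ[K] V := (k • S.B.flip w).smulRight z + (k • S.B.flip z).smulRight w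

theorem siegel_apply (w z : V) (k : K) (x : V) :
    S.siegel w z k x = (k * S.B x w) • z + (k * S.B x z) • w := rfl

theorem Over.mn_siegel (hM : S.Over M) {w z : V} (h : S.B w z = 0) (k : K) :
    MN M ((S.siegel w z k).restrictScalars F) := by
  refine hM.mn_linear _ (fun x => by simp [siegel_apply, h, S.symm_zero h, S.alt]) fun x y => ?_
  simp [siegel_apply, S.swap y w, S.swap y z]
  ring

variable (S) in
/-- The unit `u` is a `K`-linear isometry of `B`. -/
def Lin (u : (Module.End F V)ˣ) : Prop :=
  (∀ (k : K) (x : V), (u : Module.End F V) (k • x) = k • (u : Module.End F V) x) ∧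
    ∀ x y, S.B ((u : Module.End F V) x) ((u : Module.End F V) y) = S.B x y

theorem Lin.mul {u v : (Module.End F V)ˣ} (hu : S.Lin u) (hv : S.Lin v) : S.Lin (u * v) :=
  ⟨fun k x => by simp [hu.1, hv.1], fun x y => by simp [hu.2, hv.2]⟩

theorem exists_lin_trans (S : Form F K V) (c : V) (k : K) :
    ∃ u : (Module.End F V)ˣ, S.Lin u ∧ ∀ x, (u : Module.End F V) x = x + (k * S.B x c) • c := by
  have h2 : (S.trans c k).restrictScalars F * (S.trans c k).restrictScalars F = 0 :=
    LinearMap.ext fun x => by simp [trans_apply, S.alt]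
  refine ⟨⟨1 + (S.trans c k).restrictScalars F, 1 - (S.trans c k).restrictScalars F, ?_, ?_⟩, ⟨?_, ?_⟩, ?_⟩
  · rw [add_mul, one_mul, mul_sub, mul_one, h2]; abel
  · rw [sub_mul, one_mul, mul_add, mul_one, h2]; abel
  · intro a x; simp [smul_add]
  · intro x y
    simp [trans_apply, S.alt, S.swap c y]
    ring
  · exact fun x => by simp [trans_apply]

/-- Transitivity of the `K`-linear isometries on nonzero vectors. -/
theorem exists_lin (S : Form F K V) {a b : V} (ha : a ≠ 0) (hb : b ≠ 0) :
    ∃ u : (Module.End F V)ˣ, S.Lin u ∧ (u : Module.End F V) a = b := by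
  have key : ∀ a b : V, S.B a b ≠ 0 → ∃ u : (Module.End F V)ˣ, S.Lin u ∧ (u : Module.End F V) a = b := by
    intro a b h
    obtain ⟨u, hu, hua⟩ := S.exists_lin_trans (b - a) (S.B a b)⁻¹
    exact ⟨u, hu, by simp [hua, S.alt, h]⟩
  by_cases h : S.B a b = 0
  swap
  · exact key a b h
  have hex : ∀ a : V, a ≠ 0 → ∃ z, S.B a z ≠ 0 := fun a ha => by
    by_contra hc
    push Not at hc
    exact ha (S.nd a hc)
  obtain ⟨z, hz₁, hz₂⟩ : ∃ z, S.B a z ≠ 0 ∧ S.B z b ≠ 0 := by
    obtain ⟨z, hz⟩ := hex a ha
    obtain ⟨z', hz'⟩ := hex b hb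
    by_cases h1 : S.B z b = 0
    · by_cases h2 : S.B a z' = 0
      · refine ⟨z + z', by simpa [h2] using hz, ?_⟩
        simpa [h1, S.swap z' b] using hz'
      · exact ⟨z', h2, fun h3 => hz' (S.symm_zero h3)⟩
    · exact ⟨z, hz, h1⟩
  obtain ⟨u, hu, hua⟩ := key a z hz₁
  obtain ⟨u', hu', hub⟩ := key z b hz₂
  exact ⟨u' * u, hu'.mul hu, by rw [Units.val_mul, Module.End.mul_apply, hua, hub]⟩

theorem Over.mem_of_lin (hM : S.Over M) {u : (Module.End F V)ˣ} (h : S.Lin u) : u ∈ M := hM.contains u h.1 h.2

variable (S) in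
/-- `M` contains the transvection `x ↦ x + c f(x, v) v`. -/
def Root (M : Subgroup (Module.End F V)ˣ) (v : V) (c : F) : Prop := MN M ((c • S.fL v).smulRight v)

theorem exists_B_eq (S : Form F K V) [FiniteDimensional F V] (φ : V →ₗ[K] K) : ∃ c, ∀ u, S.B u c = φ u := by
  haveI : Module.Finite K V := Module.Finite.of_restrictScalars_finite F K V
  have hinj : Function.Injective S.B.flip := by
    rw [injective_iff_map_eq_zero]
    exact fun c hc => S.nd c fun y => S.symm_zero (LinearMap.congr_fun hc y)
  obtain ⟨c, hc⟩ := (LinearMap.injective_iff_surjective_of_finrank_eq_finrank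
    (Subspace.dual_finrank_eq (K := K) (V := V)).symm).1 hinj φ
  exact ⟨c, fun u => LinearMap.congr_fun hc u⟩

end Form

end Cfsg.Agent.H98.ExtSp
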