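import Cfsg.Agent.H98.ExtSp.Basic

/-!
A group over the isometries of a symplectic `K`-form that does not preserve the lines over `K` has an image of a line
meeting a line in a hyperplane, without being orthogonal to it.
-/

set_option autoImplicit false

namespace Cfsg.Agent.H98.ExtSp.Form

open Module Cfsg.Agent.H98.ExtField

variable {F : Type*} [Field F] {K : Type*} [Field K] [Algebra F K]
  {V : Type*} [AddCommGroup V] [Module F V] [Module K V] [IsScalarTower F K V]
  {S : Form F K V} {M : Subgroup (Module.End F V)ˣ}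

theorem f_line {u a b : V} (ha : a ∈ line F K u) (hb : b ∈ line F K u) : S.f a b = 0 := by
  obtain ⟨k, rfl⟩ := mem_line.1 ha
  obtain ⟨l, rfl⟩ := mem_line.1 hb
  simp [f, S.alt]

theorem Over.f_image (hM : S.Over M) {g : (Module.End F V)ˣ} (hg : g ∈ M) {v a b : V}
    (ha : a ∈ (line F K v).map (g : Module.End F V)) (hb : b ∈ (line F K v).map (g : Module.End F V)) :
    S.f a b = 0 := by
  obtain ⟨a', ha', rfl⟩ := ha
  obtain ⟨b', hb', rfl⟩ := hb
  rw [hM.iso g hg]
  exact f_line ha' hb'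

variable [FiniteDimensional F V] [FiniteDimensional F K]

/-- A move fixing the intersection with a line and enlarging it by one vector. -/
theorem Over.exists_shift (hM : S.Over M) (hr : (finrank F K).Prime) {L : Submodule F V} {u x : V}
    (hu : u ≠ 0) (hxL : x ∈ L) (hxu : x ∉ line F K u) (hLr : finrank F L = finrank F K)
    (hline : ∀ z, L ≠ line F K z) (hne : L ⊓ line F K u ≠ ⊥)
    (hd : finrank F ↥(L ⊓ line F K u) + 2 ≤ finrank F K) :
    ∃ N : V →ₗ[K] V, MN M (N.restrictScalars F) ∧ N u = 0 ∧ (∃ x₁ ∈ L, x₁ + N x₁ = x) ∧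
      ∃ x' ∈ L, N x' ∉ L := by
  have hout : ∀ c : V, c ≠ 0 → ∃ k : K, k • c ∉ L := by
    intro c hc
    by_contra h
    push Not at h
    refine hline c (Submodule.eq_of_le_of_finrank_le (fun t ht => ?_) ?_).symm
    · obtain ⟨k, rfl⟩ := mem_line.1 ht
      exact h k
    · rw [hLr, finrank_line hc]
  by_cases hα : ∃ z ∈ L, z ∉ Submodule.span K {u, x}
  · obtain ⟨z, hzL, hz⟩ := hα
    obtain ⟨φ, hφz, hφ⟩ := exists_dual {u, x} hz
    obtain ⟨c, hc⟩ := S.exists_B_eq φ
    have hc0 : c ≠ 0 := fun h => by simpa [h, hφz] using hc z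
    obtain ⟨k, hk⟩ := hout c hc0
    exact ⟨S.trans c k, hM.mn_trans c k, by simp [trans_apply, hc, hφ u],
      ⟨x, hxL, by simp [trans_apply, hc, hφ x]⟩, z, hzL, by simpa [trans_apply, hc, hφz] using hk⟩
  push Not at hα
  obtain ⟨z, hzL, c₁, c₂, hzeq, hc₂⟩ : ∃ z ∈ L, ∃ c₁ c₂ : K, c₁ • u + c₂ • x = z ∧
      ∀ a : F, algebraMap F K a ≠ c₂ := by
    by_contra hc
    push Not at hc
    have hsub : L ≤ L ⊓ line F K u ⊔ Submodule.span F {x} := by
      intro z hz
      obtain ⟨c₁, c₂, hz3⟩ := Submodule.mem_span_pair.1 (hα z hz)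
      obtain ⟨a, rfl⟩ := hc z hz c₁ c₂ hz3
      rw [algebraMap_smul] at hz3
      refine Submodule.mem_sup.2 ⟨c₁ • u, ⟨?_, c₁, rfl⟩, a • x,
        Submodule.smul_mem _ a (Submodule.mem_span_singleton_self x), hz3⟩
      rw [SetLike.mem_coe, eq_sub_of_add_eq hz3]
      exact L.sub_mem hz (L.smul_mem a hxL)
    have := (Submodule.finrank_mono hsub).trans (Submodule.finrank_add_le_finrank_add_finrank _ _)
    have hspan : finrank F (Submodule.span F {x}) ≤ 1 := (finrank_span_le_card _).trans (by simp)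
    omega
  obtain ⟨k, hk, hk'⟩ : ∃ k : K, k • u ∈ L ∧ (c₂ * k) • u ∉ L := by
    by_contra hc
    push Not at hc
    let A : Subalgebra F K :=
      { carrier := {c | ∀ k : K, k • u ∈ L → (c * k) • u ∈ L}
        one_mem' := fun k hk => by rwa [one_mul]
        mul_mem' := fun hs ht k hk => by rw [mul_assoc]; exact hs _ (ht k hk)
        zero_mem' := fun k _ => by rw [zero_mul, zero_smul]; exact L.zero_mem
        add_mem' := fun hs ht k hk => by rw [add_mul, add_smul]; exact L.add_mem (hs k hk) (ht k hk)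
        algebraMap_mem' := fun a k hk => by rw [← Algebra.smul_def, smul_assoc]; exact L.smul_mem a hk }
    haveI := Subalgebra.isSimpleOrder_of_finrank_prime F K hr
    have hA : A = ⊥ := (eq_bot_or_eq_top A).resolve_right fun hA => by
      obtain ⟨k₀, hk₀⟩ := hout u hu
      obtain ⟨w, hw, hw0⟩ := (Submodule.ne_bot_iff _).1 hne
      obtain ⟨k, hk⟩ := mem_line.1 hw.2
      have hk0 : k ≠ 0 := fun h => hw0 (by rw [← hk, h, zero_smul])
      have hmem : k₀ * k⁻¹ ∈ A := hA ▸ Algebra.mem_top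
      have := hmem k (hk ▸ hw.1)
      rw [mul_assoc, inv_mul_cancel₀ hk0, mul_one] at this
      exact hk₀ this
    have : c₂ ∈ A := hc
    rw [hA, Algebra.mem_bot] at this
    obtain ⟨a, ha⟩ := this
    exact hc₂ a ha
  obtain ⟨N, hN, hNu, hNx⟩ : ∃ N : V →ₗ[K] V, MN M (N.restrictScalars F) ∧ N u = 0 ∧ N x = k • u := by
    by_cases ha : S.B x u = 0
    · obtain ⟨φ, hφx, hφ⟩ := exists_dual {u} (notMem_span_singleton hxu)
      obtain ⟨w, hw⟩ := S.exists_B_eq φ
      exact ⟨S.siegel u w k, hM.mn_siegel (by rw [hw, hφ u rfl]) k,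
        by simp [siegel_apply, S.alt, hw, hφ u rfl], by simp [siegel_apply, ha, hw, hφx]⟩
    · exact ⟨S.trans u (k / S.B x u), hM.mn_trans _ _, by simp [trans_apply, S.alt],
        by simp [trans_apply, ha]⟩
  refine ⟨N, hN, hNu, ⟨x - k • u, L.sub_mem hxL hk, by simp [hNx, hNu]⟩, z, hzL, ?_⟩
  rwa [← hzeq, map_add, map_smul, map_smul, hNu, hNx, smul_zero, zero_add, smul_smul]

/-- Some image of a line meets a line in a hyperplane. -/
theorem Over.exists_hyperplane (hM : S.Over M) (hr : (finrank F K).Prime) : ∀ (e : ℕ) {g : (Module.End F V)ˣ},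
    g ∈ M → ∀ {v u : V}, v ≠ 0 → u ≠ 0 → (∀ z, (line F K v).map (g : Module.End F V) ≠ line F K z) →
    (line F K v).map (g : Module.End F V) ⊓ line F K u ≠ ⊥ →
    finrank F ↥((line F K v).map (g : Module.End F V) ⊓ line F K u) + e = finrank F K →
    ∃ g ∈ M, ∃ v u : V, v ≠ 0 ∧ u ≠ 0 ∧
      finrank F ↥((line F K v).map (g : Module.End F V) ⊓ line F K u) + 1 = finrank F K := by
  intro e
  induction e using Nat.strong_induction_on with
  | _ e ih =>
  intro g hg v u hv hu hline hne hd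
  set L := (line F K v).map (g : Module.End F V) with hL
  have hLr : finrank F L = finrank F K := by rw [hL, finrank_map_coe, finrank_line hv]
  rcases eq_or_ne e 0 with rfl | he0
  · rw [add_zero, ← hLr] at hd
    refine absurd ?_ (hline u)
    exact Submodule.eq_of_le_of_finrank_le (inf_eq_left.1 (Submodule.eq_of_le_of_finrank_le inf_le_left hd.ge))
      (by rw [finrank_line hu, hLr])
  rcases eq_or_ne e 1 with rfl | he1
  · exact ⟨g, hg, v, u, hv, hu, hd⟩
  obtain ⟨x, hxL, hxu⟩ : ∃ x ∈ L, x ∉ line F K u := by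
    by_contra hc
    push Not at hc
    rw [inf_eq_left.2 hc, hLr] at hd
    omega
  obtain ⟨N, ⟨-, t, ht, hta⟩, hNu, ⟨x₁, hx₁, hx₁t⟩, x', hx', hNx'⟩ :=
    hM.exists_shift hr hu hxL hxu hLr hline hne (by omega)
  have htx : ∀ z, (t : Module.End F V) z = z + N z := fun z => by simp [hta]
  set L' := L.map (t : Module.End F V) with hL'
  have hI : L ⊓ line F K u ≤ L' := fun z hz => by
    obtain ⟨k, rfl⟩ := mem_line.1 hz.2
    exact ⟨k • u, hz.1, by simp [htx, hNu]⟩
  have hxL' : x ∈ L' := ⟨x₁, hx₁, by rw [htx, hx₁t]⟩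
  have hne' : L' ≠ L := fun h => hNx' (by
    have : (t : Module.End F V) x' ∈ L := h ▸ Submodule.mem_map_of_mem hx'
    rw [htx] at this
    simpa using L.sub_mem this hx')
  have hmap : (line F K v).map ((g⁻¹ * t * g : (Module.End F V)ˣ) : Module.End F V) =
      L'.map ((g⁻¹ : (Module.End F V)ˣ) : Module.End F V) := by
    rw [Units.val_mul, Units.val_mul, Module.End.mul_eq_comp, Module.End.mul_eq_comp, hL', hL,
      Submodule.map_comp, Submodule.map_comp]
  have hx0 : x ≠ 0 := fun h => hxu (h ▸ Submodule.zero_mem _)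
  have hxv : ((g⁻¹ : (Module.End F V)ˣ) : Module.End F V) x ∈ line F K v := by
    obtain ⟨a, ha, rfl⟩ := hxL
    rwa [inv_apply]
  have hline' : ∀ z, L'.map ((g⁻¹ : (Module.End F V)ˣ) : Module.End F V) ≠ line F K z := fun z hz => by
    have h1 : ((g⁻¹ : (Module.End F V)ˣ) : Module.End F V) x ∈ line F K z := hz ▸ Submodule.mem_map_of_mem hxL'
    have h0 : ((g⁻¹ : (Module.End F V)ˣ) : Module.End F V) x ≠ 0 := fun h =>
      hx0 (injective_coe g⁻¹ (by rw [h, map_zero]))
    rw [← line_eq_of_mem h1 h0, line_eq_of_mem hxv h0] at hz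
    exact hne' (by rw [← map_map_inv g L', hz])
  have hinf : L'.map ((g⁻¹ : (Module.End F V)ˣ) : Module.End F V) ⊓ line F K v =
      (L' ⊓ L).map ((g⁻¹ : (Module.End F V)ˣ) : Module.End F V) := by
    rw [Submodule.map_inf _ (injective_coe g⁻¹), hL, map_inv_map]
  have hlt : finrank F ↥(L ⊓ line F K u) < finrank F ↥(L' ⊓ L) :=
    Submodule.finrank_lt_finrank_of_lt (lt_of_le_of_ne (le_inf hI inf_le_left) fun h =>
      hxu ((h.symm ▸ ⟨hxL', hxL⟩ : x ∈ L ⊓ line F K u).2))
  have hle : finrank F ↥(L' ⊓ L) ≤ finrank F L := Submodule.finrank_mono inf_le_right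
  refine ih (finrank F K - finrank F ↥(L' ⊓ L)) (by omega) (M.mul_mem (M.mul_mem (M.inv_mem hg) ht) hg) hv hv
    (fun z => hmap ▸ hline' z) ?_ ?_
  · rw [hmap, hinf]
    intro h
    rw [← finrank_map_coe g⁻¹ (L' ⊓ L), h, finrank_bot] at hlt
    omega
  · rw [hmap, hinf, finrank_map_coe]
    omega

/-- The hyperplane may be chosen nonorthogonal to the line. -/
theorem Over.exists_nonorth (hM : S.Over M) {g : (Module.End F V)ˣ} (hg : g ∈ M) {v u : V} (hv : v ≠ 0)
    (hu : u ≠ 0) (hr : 2 ≤ finrank F K)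
    (hd : finrank F ↥((line F K v).map (g : Module.End F V) ⊓ line F K u) + 1 = finrank F K) :
    ∃ g ∈ M, ∃ v u x : V, v ≠ 0 ∧ u ≠ 0 ∧ x ∈ (line F K v).map (g : Module.End F V) ∧ S.B x u ≠ 0 ∧
      finrank F ↥((line F K v).map (g : Module.End F V) ⊓ line F K u) + 1 = finrank F K := by
  set L := (line F K v).map (g : Module.End F V) with hL
  have hLr : finrank F L = finrank F K := by rw [hL, finrank_map_coe, finrank_line hv]
  obtain ⟨x, hxL, hxu⟩ : ∃ x ∈ L, x ∉ line F K u := by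
    by_contra hc
    push Not at hc
    rw [inf_eq_left.2 hc, hLr] at hd
    omega
  by_cases hx : S.B x u = 0
  swap
  · exact ⟨g, hg, v, u, x, hv, hu, hxL, hx, hd⟩
  obtain ⟨φ, hφx, hφ⟩ := exists_dual {u} (notMem_span_singleton hxu)
  obtain ⟨c, hc⟩ := S.exists_B_eq φ
  obtain ⟨k, hk⟩ : ∃ k, S.τ k ≠ 0 := by
    by_contra h
    push Not at h
    exact S.τ_ne (LinearMap.ext h)
  obtain ⟨t, htl, htx⟩ := S.exists_lin_trans c k
  have ht := hM.mem_of_lin htl
  set L' := L.map (t : Module.End F V) with hL'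
  have hI : L ⊓ line F K u ≤ L' := fun z hz => by
    obtain ⟨l, rfl⟩ := mem_line.1 hz.2
    exact ⟨l • u, hz.1, by simp [htx, hc, hφ u]⟩
  have hfx : S.f x ((t : Module.End F V) x) ≠ 0 := by
    rw [htx, hc, hφx, mul_one, f, map_add, S.alt, zero_add, map_smul, hc, hφx, smul_eq_mul, mul_one]
    exact hk
  have hne' : L' ≠ L := fun h => hfx <| by
    have h1 : (t : Module.End F V) x ∈ L := h ▸ Submodule.mem_map_of_mem hxL
    exact hM.f_image hg hxL h1
  have hL'r : finrank F L' = finrank F K := by rw [hL', finrank_map_coe, hLr]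
  have hlt : finrank F ↥(L' ⊓ L) < finrank F K := hLr ▸
    Submodule.finrank_lt_finrank_of_lt (lt_of_le_of_ne inf_le_right fun h => hne'
      (Submodule.eq_of_le_of_finrank_le (inf_eq_right.1 h) (by rw [hL'r, hLr])).symm)
  have hge : finrank F ↥(L ⊓ line F K u) ≤ finrank F ↥(L' ⊓ L) :=
    Submodule.finrank_mono (le_inf hI inf_le_left)
  refine ⟨g⁻¹ * t * g, M.mul_mem (M.mul_mem (M.inv_mem hg) ht) hg, v, v,
    ((g⁻¹ : (Module.End F V)ˣ) : Module.End F V) ((t : Module.End F V) x), hv, hv, ?_, ?_, ?_⟩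
  · obtain ⟨a, ha, hax⟩ := hxL
    exact ⟨a, ha, by simp [hax]⟩
  · intro h
    apply hfx
    obtain ⟨a, ha, hax⟩ := hxL
    obtain ⟨l, rfl⟩ := mem_line.1 ha
    rw [S.f_swap, ← hM.iso g⁻¹ (M.inv_mem hg), ← hax, inv_apply, f, map_smul, hax, h, smul_zero, map_zero,
      neg_zero]
  · have hmap : (line F K v).map ((g⁻¹ * t * g : (Module.End F V)ˣ) : Module.End F V) =
        L'.map ((g⁻¹ : (Module.End F V)ˣ) : Module.End F V) := by
      rw [Units.val_mul, Units.val_mul, Module.End.mul_eq_comp, Module.End.mul_eq_comp, hL', hL,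
        Submodule.map_comp, Submodule.map_comp]
    have hinf : L'.map ((g⁻¹ : (Module.End F V)ˣ) : Module.End F V) ⊓ line F K v =
        (L' ⊓ L).map ((g⁻¹ : (Module.End F V)ˣ) : Module.End F V) := by
      rw [Submodule.map_inf _ (injective_coe g⁻¹), hL, map_inv_map]
    rw [hmap, hinf, finrank_map_coe]
    omega

/-- A hyperplane configuration from an element not preserving the lines. -/
theorem Over.exists_config (hM : S.Over M) (hr : (finrank F K).Prime) (hlt : finrank F K < finrank F V)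
    {g : (Module.End F V)ˣ} (hg : g ∈ M) {k : K}
    (hne : ∀ k' : K, ∃ x, (g : Module.End F V) (k • ((g⁻¹ : (Module.End F V)ˣ) : Module.End F V) x) ≠ k' • x) :
    ∃ g ∈ M, ∃ v u x : V, v ≠ 0 ∧ u ≠ 0 ∧ x ∈ (line F K v).map (g : Module.End F V) ∧ S.B x u ≠ 0 ∧
      finrank F ↥((line F K v).map (g : Module.End F V) ⊓ line F K u) + 1 = finrank F K := by
  have hdim : ∀ v : V, ∃ z, z ∉ line F K v := by
    intro v
    by_contra hc
    push Not at hc
    have h1 := LinearMap.finrank_range_le (smulMap F K v)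
    rw [show LinearMap.range (smulMap F K v) = ⊤ from eq_top_iff.2 fun z _ => hc z, finrank_top] at h1
    omega
  obtain ⟨g₁, hg₁, v₁, hv₁, hline⟩ := exists_nonline hg hne hdim
  set u₁ := (g₁ : Module.End F V) v₁ with hu₁
  have hu0 : u₁ ≠ 0 := fun h => hv₁ (injective_coe g₁ (by rw [← hu₁, h, map_zero]))
  have hmem : u₁ ∈ (line F K v₁).map (g₁ : Module.End F V) ⊓ line F K u₁ :=
    ⟨Submodule.mem_map_of_mem (self_mem_line v₁), self_mem_line u₁⟩
  obtain ⟨g₂, hg₂, v, u, hv, hu, hd⟩ := hM.exists_hyperplane hr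
    (finrank F K - finrank F ↥((line F K v₁).map (g₁ : Module.End F V) ⊓ line F K u₁)) hg₁ hv₁ hu0 hline
    (fun h => hu0 (by simpa [h] using hmem)) (Nat.add_sub_cancel' (by
      calc _ ≤ finrank F (line F K u₁) := Submodule.finrank_mono inf_le_right
        _ = _ := finrank_line hu0))
  exact hM.exists_nonorth hg₂ hv hu hr.two_le hd

end Cfsg.Agent.H98.ExtSp.Form
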