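import Cfsg.Agent.H98.ExtSp.Config

/-!
A transvection of the trace form from an image of a line meeting a nonorthogonal line in a hyperplane.
-/

set_option autoImplicit false

namespace Cfsg.Agent.H98.ExtSp.Form

open Module Cfsg.Agent.H98.ExtField

variable {F : Type*} [Field F] {K : Type*} [Field K] [Algebra F K]
  {V : Type*} [AddCommGroup V] [Module F V] [Module K V] [IsScalarTower F K V]
  {S : Form F K V} {M : Subgroup (Module.End F V)ˣ}

variable (S M) in
/-- The data of a hyperplane configuration. -/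
structure Pair (w x : V) (y : K) : Prop where
  y_spec : S.τ (y * S.B x w) = 1
  one_spec : S.τ (S.B x w) = 0
  hb : ∀ c : F, ∃ b : Module.End F V, MN M b ∧ (∀ k : K, b (k • w) = (c * S.τ (k * S.B x w)) • w) ∧
    (∀ u, S.B (b u) w = -((c * S.f u w) • S.B x w)) ∧
    ∀ z, S.B z w = 0 → S.B z x = 0 → b z = 0 ∧ ∀ u, S.B (b u) z = 0

variable [FiniteDimensional F V] [FiniteDimensional F K]

theorem Over.exists_pair (hM : S.Over M) {g : (Module.End F V)ˣ} (hg : g ∈ M) {v u x : V} (hv : v ≠ 0)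
    (hr : 2 ≤ finrank F K) (hxL : x ∈ (line F K v).map (g : Module.End F V)) (hxu : S.B x u ≠ 0)
    (hd : finrank F ↥((line F K v).map (g : Module.End F V) ⊓ line F K u) + 1 = finrank F K) :
    ∃ (w x : V) (y : K), S.Pair M w x y := by
  set L := (line F K v).map (g : Module.End F V) with hL
  have hLr : finrank F L = finrank F K := by rw [hL, finrank_map_coe, finrank_line hv]
  obtain ⟨w, hw, hw0⟩ := (Submodule.ne_bot_iff (L ⊓ line F K u)).1 fun h => by
    rw [h, finrank_bot] at hd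
    omega
  have hl : line F K u = line F K w := (line_eq_of_mem hw.2 hw0).symm
  have hxw : S.B x w ≠ 0 := by
    obtain ⟨k, rfl⟩ := mem_line.1 hw.2
    simp [(smul_ne_zero_iff.1 hw0).1, hxu]
  rw [hl] at hd
  obtain ⟨y, hy⟩ : ∃ y : K, S.τ (y * S.B x w) ≠ 0 := by
    by_contra h
    push Not at h
    exact hxw (S.eq_zero_of_f h)
  set x' := (S.τ (y * S.B x w))⁻¹ • x with hx'
  have hyp : S.τ (y * S.B x' w) = 1 := by
    simp [hx', LinearMap.map_smul_of_tower, inv_mul_cancel₀ hy]
  have hxL' : x' ∈ L := L.smul_mem _ hxL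
  set J : Submodule F K := L.comap (smulMap F K w) with hJdef
  set ψ : K →ₗ[F] F := S.τ ∘ₗ LinearMap.mulRight F (S.B x' w) with hψ
  have hψ' : ∀ k, ψ k = S.τ (k * S.B x' w) := fun k => rfl
  have hmap : J.map (smulMap F K w) = L ⊓ line F K w := by rw [hJdef, Submodule.map_comap_eq, inf_comm]; rfl
  have hJr : finrank F J + 1 = finrank F K := by
    rw [(Submodule.equivMapOfInjective _ (smulMap_injective hw0) J).finrank_eq, hmap]
    exact hd
  have hle : J ≤ LinearMap.ker ψ := fun j hj => by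
    have := hM.f_image hg hxL' (show j • w ∈ L from hj)
    simpa [f, hψ] using this
  have hker : J = LinearMap.ker ψ := by
    refine Submodule.eq_of_le_of_finrank_le hle ?_
    have : finrank F (LinearMap.ker ψ) < finrank F K := Submodule.finrank_lt fun h => by
      have := LinearMap.mem_ker.1 (h.symm ▸ Submodule.mem_top : y ∈ LinearMap.ker ψ)
      rw [hψ', hyp] at this
      exact one_ne_zero this
    omega
  have hJ : ∀ k : K, k • w ∈ L ↔ S.τ (k * S.B x' w) = 0 := fun k => by
    rw [← hψ', ← LinearMap.mem_ker, ← hker]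
    rfl
  have h1 : S.τ (S.B x' w) = 0 := by simpa using (hJ 1).1 (by simpa using hw.1)
  refine ⟨w, x', y, hyp, h1, fun c => ?_⟩
  have hxline : x' ∉ line F K w := fun h => by
    obtain ⟨k, hk⟩ := mem_line.1 h
    simpa [← hk, S.alt] using hyp
  have hdec : ∀ z ∈ L, ∃ j : K, j • w ∈ L ∧ ∃ d : F, z = j • w + d • x' := by
    have hW : L ⊓ line F K w ⊔ Submodule.span F {x'} = L := by
      refine Submodule.eq_of_le_of_finrank_le (sup_le inf_le_left (by simpa using hxL')) ?_
      have hlt : L ⊓ line F K w < L ⊓ line F K w ⊔ Submodule.span F {x'} :=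
        lt_of_le_of_ne le_sup_left fun h => hxline
          ((h.symm ▸ Submodule.mem_sup_right (Submodule.mem_span_singleton_self x') : x' ∈ L ⊓ line F K w).2)
      have := Submodule.finrank_lt_finrank_of_lt hlt
      omega
    intro z hz
    rw [← hW, Submodule.mem_sup] at hz
    obtain ⟨a, ⟨haL, k, rfl⟩, b, hb, rfl⟩ := hz
    obtain ⟨d, rfl⟩ := Submodule.mem_span_singleton.1 hb
    exact ⟨k, haL, d, rfl⟩
  set gi : Module.End F V := ((g⁻¹ : (Module.End F V)ˣ) : Module.End F V) with hgi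
  have hLv : ∀ z ∈ L, gi z ∈ line F K v := fun z hz => by
    obtain ⟨a, ha, rfl⟩ := hz
    rwa [hgi, inv_apply]
  set v' := gi w with hv'
  have hv'0 : v' ≠ 0 := fun h => hw0 (injective_coe g⁻¹ (by rw [← hgi, ← hv', h, map_zero]))
  have hlv : line F K v = line F K v' := (line_eq_of_mem (hLv w hw.1) hv'0).symm
  have hd0 : S.B (gi (y • w)) v' ≠ 0 := by
    intro h
    have hx'' := hLv x' hxL'
    rw [hlv, mem_line] at hx''
    obtain ⟨k, hk⟩ := hx''
    have : S.f (y • w) x' = 0 := by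
      rw [← hM.iso g⁻¹ (M.inv_mem hg), ← hgi, ← hk, f, map_smul, h, smul_zero, map_zero]
    rw [S.f_swap, f, map_smul, smul_eq_mul, hyp] at this
    exact one_ne_zero (neg_eq_zero.1 this)
  set T := (S.trans v' (algebraMap F K c / S.B (gi (y • w)) v')).restrictScalars F with hT
  set b := (g : Module.End F V) * T * gi with hbdef
  have hmn : MN M b := (hM.mn_trans v' _).conj hg
  have hbL : ∀ z ∈ L, b z = 0 := fun z hz => by
    have := hLv z hz
    rw [hlv, mem_line] at this
    obtain ⟨k, hk⟩ := this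
    rw [hbdef, Module.End.mul_apply, Module.End.mul_apply, ← hk, hT]
    simp [trans_apply, S.alt]
  have hbim : ∀ z, b z ∈ L := fun z => by
    rw [hbdef, Module.End.mul_apply, Module.End.mul_apply]
    refine Submodule.mem_map_of_mem ?_
    rw [hlv]
    exact ⟨_, rfl⟩
  have hby : b (y • w) = c • w := by
    rw [hbdef, Module.End.mul_apply, Module.End.mul_apply, hT, LinearMap.restrictScalars_apply, trans_apply,
      div_mul_cancel₀ _ hd0, algebraMap_smul, map_smul, hv', hgi, apply_inv]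
  have hbw : ∀ k : K, b (k • w) = (c * S.τ (k * S.B x' w)) • w := fun k => by
    have hk : (k - S.τ (k * S.B x' w) • y) • w ∈ L := (hJ _).2 (by simp [sub_mul, hyp])
    have := hbL _ hk
    rw [sub_smul, map_sub, sub_eq_zero, smul_assoc, b.map_smul _ (y • w), hby, smul_smul] at this
    rw [this, mul_comm]
  have hskew : ∀ z z', S.f (b z) z' = -S.f z (b z') := fun z z' => by
    obtain ⟨-, t, ht, hta⟩ := hmn
    have := hM.iso t ht z z'
    rw [hta] at this
    simp only [LinearMap.add_apply, Module.End.one_apply, S.f_add_left, S.f_add_right,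
      hM.f_image hg (hbim z) (hbim z'), add_zero] at this
    linear_combination this
  refine ⟨b, hmn, hbw, fun z => ?_, fun z hzw hzx => ⟨?_, fun a => ?_⟩⟩
  · obtain ⟨j, -, d, hz⟩ := hdec _ (hbim z)
    have hB : S.B (b z) w = d • S.B x' w := by simp [hz, S.alt, LinearMap.map_smul_of_tower]
    have := hskew z (y • w)
    rw [hby, S.f_smul_right, f, map_smul, smul_eq_mul, hB, mul_smul_comm, map_smul, hyp, smul_eq_mul,
      mul_one] at this
    rw [hB, this, neg_smul]
  · refine S.nd _ fun a => S.eq_zero_of_f fun s => ?_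
    have := hskew z (s • a)
    obtain ⟨j, -, d, ha⟩ := hdec _ (hbim (s • a))
    rw [f, map_smul, smul_eq_mul] at this
    rw [this, ha, f]
    simp [hzw, hzx, LinearMap.map_smul_of_tower]
  · obtain ⟨j, -, d, ha⟩ := hdec _ (hbim a)
    simp [ha, S.symm_zero hzw, S.symm_zero hzx, LinearMap.map_smul_of_tower]

variable (S M) in
/-- Some element `1 + N` of `M` has `N u = φ (B u w) • w`. -/
def InD (w : V) (φ : K → K) : Prop := ∃ N, MN M N ∧ ∀ u, N u = φ (S.B u w) • w

theorem InD.congr {w : V} {φ φ' : K → K} (h : S.InD M w φ) (e : ∀ k, φ k = φ' k) : S.InD M w φ' := by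
  rwa [← funext e]

theorem InD.sub {w : V} (hw : w ≠ 0) {φ φ' : K → K} (h : S.InD M w φ) (h' : S.InD M w φ') :
    S.InD M w (fun k => φ k - φ' k) := by
  obtain ⟨N, hN, hNu⟩ := h
  obtain ⟨N', hN', hNu'⟩ := h'
  have h0 : φ 0 = 0 := by simpa [hw, eq_comm] using hNu 0
  have h0' : φ' 0 = 0 := by simpa [hw, eq_comm] using hNu' 0
  exact ⟨N - N', hN.sub hN' (LinearMap.ext fun u => by simp [hNu, hNu', S.alt, h0])
    (LinearMap.ext fun u => by simp [hNu, hNu', S.alt, h0']), fun u => by simp [hNu, hNu', sub_smul]⟩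

omit [FiniteDimensional F V] [FiniteDimensional F K] in
theorem InD.root {w : V} {c : F} (h : S.InD M w fun k => algebraMap F K (c * S.τ k)) : S.Root M w c := by
  obtain ⟨N, hN, hNu⟩ := h
  have e : N = (c • S.fL w).smulRight w := LinearMap.ext fun u => by
    rw [hNu, algebraMap_smul]; rfl
  rw [Root, ← e]
  exact hN

theorem InD.conj (hM : S.Over M) {w : V} (hw : w ≠ 0) {φ : K → K} (h : S.InD M w φ) {t : K} (ht : t ≠ 0) :
    S.InD M w (fun k => t * φ (t * k)) := by
  obtain ⟨N, hN, hNu⟩ := h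
  obtain ⟨a, ⟨ha, ha'⟩, haw⟩ := S.exists_lin hw (smul_ne_zero ht hw)
  refine ⟨_, hN.conj (hM.contains a ha ha'), fun u => ?_⟩
  set a' := ((a⁻¹ : (Module.End F V)ˣ) : Module.End F V) with hai
  have : S.B (a' u) w = t * S.B u w := by
    rw [← ha', hai, apply_inv, haw, map_smul, smul_eq_mul]
  rw [Module.End.mul_apply, Module.End.mul_apply, hNu, this, ha, haw, smul_smul, mul_comm]

namespace Pair

variable {w x : V} {y : K} (P : S.Pair M w x y)

include P

theorem p_ne : S.B x w ≠ 0 := fun h => by simpa [h] using P.y_spec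

theorem w_ne : w ≠ 0 := fun h => P.p_ne (by rw [h, map_zero])

theorem mem_E (hM : S.Over M) (c : F) (s : K) : S.InD M w fun β =>
    (c * S.τ β) • s + algebraMap F K (c * S.τ (s * β) + c * c * S.τ β * S.τ (s * S.B x w)) := by
  obtain ⟨b, hmn, hbw, hbβ, -⟩ := P.hb c
  obtain ⟨hb2, t, ht, hta⟩ := hmn
  set p := S.B x w with hp
  obtain ⟨k, rfl⟩ : ∃ k, k * p = s := ⟨s / p, div_mul_cancel₀ s P.p_ne⟩
  have h1 : S.InD M w fun β => k * (β + (c * S.τ β) • p) +
      algebraMap F K (c * S.τ (k * (β + (c * S.τ β) • p) * p)) := by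
    refine ⟨_, (hM.mn_trans w k).conj ht, fun u => ?_⟩
    rw [Module.End.mul_apply, Module.End.mul_apply, coe_inv_of_eq hb2 hta, hta, LinearMap.restrictScalars_apply,
      trans_apply, LinearMap.add_apply, Module.End.one_apply, hbw, LinearMap.sub_apply, Module.End.one_apply,
      map_sub, LinearMap.sub_apply, hbβ, sub_neg_eq_add, add_smul, algebraMap_smul]
    rfl
  have h2 : S.InD M w fun β => k * β := ⟨_, hM.mn_trans w k, fun u => rfl⟩
  refine (h1.sub P.w_ne h2).congr fun β => ?_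
  simp only [mul_add, add_mul, mul_smul_comm, smul_mul_assoc, map_add, map_smul, smul_eq_mul]
  rw [show k * β * p = k * p * β from mul_right_comm k β p]
  simp only [map_mul]
  ring

theorem root_of_inv (hM : S.Over M) {u : K} (h : S.τ (u * S.B x w) ≠ 0) (h' : S.τ (u⁻¹ * S.B x w) = 0) :
    ∃ c : F, c ≠ 0 ∧ S.Root M w c := by
  have hu : u ≠ 0 := fun h0 => h (by rw [h0, zero_mul, map_zero])
  refine ⟨_, h, InD.root (((P.mem_E hM 1 u).sub P.w_ne ((P.mem_E hM 1 u⁻¹).conj hM P.w_ne hu)).congr fun β => ?_)⟩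
  simp only [one_mul, h', mul_zero, add_zero, inv_mul_cancel_left₀ hu, mul_add, mul_smul_comm,
    mul_inv_cancel₀ hu, ← Algebra.algebraMap_eq_smul_one, map_add, map_mul]
  simp only [Algebra.smul_def]
  ring

theorem root_of_third (hM : S.Over M) (hdim : 2 * finrank F K < finrank F V) :
    S.Root M w 1 := by
  haveI : Module.Finite K V := Module.Finite.of_restrictScalars_finite F K V
  set p := S.B x w with hp
  have hp0 : p ≠ 0 := P.p_ne
  have hwx : S.B w x = -p := S.swap w x
  let proj : V → V := fun u => u + (S.B u x / p) • w - (S.B u w / p) • x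
  have hproj : ∀ u, S.B (proj u) w = 0 ∧ S.B (proj u) x = 0 := fun u => by
    constructor <;> simp [proj, S.alt, hwx, ← hp, hp0]
  obtain ⟨z₀, hz₀⟩ : ∃ z, z ∉ Submodule.span K {w, x} := by
    by_contra h
    push Not at h
    have h1 : finrank K V ≤ 2 := by
      classical
      rw [← finrank_top K V, show (⊤ : Submodule K V) = Submodule.span K ↑({w, x} : Finset V) by
        rw [Finset.coe_pair]; exact (eq_top_iff.2 fun z _ => h z).symm]
      exact (finrank_span_finset_le_card _).trans Finset.card_le_two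
    rw [← Module.finrank_mul_finrank F K V] at hdim
    have := Nat.mul_le_mul_left (finrank F K) h1
    omega
  set z₁ := proj z₀ with hz₁
  have hz10 : z₁ ≠ 0 := fun h => hz₀ (Submodule.mem_span_pair.2
    ⟨-(S.B z₀ x / p), S.B z₀ w / p, by rw [neg_smul, eq_comm, ← sub_eq_zero, ← h, hz₁]; simp only [proj]; abel⟩)
  obtain ⟨φ, hφ, -⟩ := exists_dual (K := K) ∅ (x := z₁) (by simpa using hz10)
  obtain ⟨a, ha⟩ := S.exists_B_eq φ
  have hz₂ : ∃ z₂, S.B z₂ w = 0 ∧ S.B z₂ x = 0 ∧ S.B z₂ z₁ = y / p := by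
    refine ⟨(-(y / p)) • proj a, by simp [(hproj a).1], by simp [(hproj a).2], ?_⟩
    have e1 : S.B z₁ a = 1 := by rw [ha, hφ]
    have ew : S.B w z₁ = 0 := S.symm_zero (hproj z₀).1
    have ex : S.B x z₁ = 0 := S.symm_zero (hproj z₀).2
    simp [proj, ew, ex, S.swap a z₁, e1]
  obtain ⟨z₂, hz2w, hz2x, hz21⟩ := hz₂
  obtain ⟨b, hmn, hbw, hbβ, hperp⟩ := P.hb 1
  obtain ⟨hb2, t, ht, hta⟩ := hmn
  have key : ∀ z, S.B z w = 0 → S.B z x = 0 → ∃ N, MN M N ∧
      ∀ u, N u = (S.f u w • p) • z + S.τ (S.B u z * p) • w := by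
    intro z hzw hzx
    have hk : ∀ k : K, b (k • z) = 0 := fun k =>
      (hperp (k • z) (by simp [hzw]) (by simp [hzx])).1
    set T := (S.siegel w z 1).restrictScalars F with hT
    have hTu : ∀ u, T u = S.B u w • z + S.B u z • w := fun u => by simp [hT, siegel_apply]
    set A := (t : Module.End F V) * T * ((t⁻¹ : (Module.End F V)ˣ) : Module.End F V) with hA
    have hAu : ∀ u, A u = T u + ((S.f u w • p) • z + S.τ (S.B u z * p) • w) := fun u => by
      rw [hA, Module.End.mul_apply, Module.End.mul_apply, coe_inv_of_eq hb2 hta, hta, LinearMap.sub_apply,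
        Module.End.one_apply, hTu, hTu, map_sub, LinearMap.sub_apply, hbβ, LinearMap.sub_apply,
        (hperp z hzw hzx).2 u, sub_zero, sub_neg_eq_add, one_mul, LinearMap.add_apply, Module.End.one_apply,
        map_add, hk, hbw, one_mul, zero_add, add_smul]
      abel
    have hTT : MN M T := hM.mn_siegel (S.symm_zero hzw) 1
    refine ⟨A - T, (hTT.conj ht).sub hTT (LinearMap.ext fun u => ?_) (LinearMap.ext fun u => ?_), fun u => ?_⟩
    · show A (T u) = 0
      rw [hAu]
      simp [hTu, f, S.alt, hzw, S.symm_zero hzw]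
    · show T (A u) = 0
      rw [hAu]
      simp [hTu, S.alt, hzw, S.symm_zero hzw, LinearMap.map_smul_of_tower]
    · rw [LinearMap.sub_apply, hAu]
      abel
  obtain ⟨N₁, ⟨hN12, u₁, hu₁, hu1⟩, hN₁⟩ := key z₁ (hproj z₀).1 (hproj z₀).2
  obtain ⟨N₂, ⟨hN22, u₂, hu₂, hu2⟩, hN₂⟩ := key z₂ hz2w hz2x
  have e1 : S.B z₁ w = 0 := (hproj z₀).1
  have e2 : S.B z₁ x = 0 := (hproj z₀).2
  have hyp : S.τ (y * p) = 1 := P.y_spec
  obtain ⟨N₃, ⟨hN32, u₃, hu₃, hu3⟩, hN₃⟩ := key (z₁ + z₂) (by simp [e1, hz2w]) (by simp [e2, hz2x])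
  have hsum : N₁ + N₂ = N₃ := LinearMap.ext fun u => by
    simp [hN₁, hN₂, hN₃, add_mul, add_smul, smul_add]
    abel
  have hP : ∀ u, (N₁ * N₂) u = S.f u w • w := fun u => by
    rw [Module.End.mul_apply, hN₂, hN₁]
    simp [f, S.alt, hz2w, hz21, S.symm_zero e1, LinearMap.map_smul_of_tower, smul_mul_assoc,
      mul_div_cancel₀ _ hp0, hyp]
  have hP3 : ∀ u, (N₁ * N₂) (N₃ u) = 0 := fun u => by
    rw [hP, hN₃]
    simp [f, S.alt, e1, hz2w, LinearMap.map_smul_of_tower]
  refine ⟨?_, u₁ * u₂ * u₃⁻¹, M.mul_mem (M.mul_mem hu₁ hu₂) (M.inv_mem hu₃), ?_⟩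
  · refine LinearMap.ext fun u => ?_
    simp [S.f_self]
  · have e : (1 • S.fL w : V →ₗ[F] F).smulRight w = N₁ * N₂ := LinearMap.ext fun u => by simp [hP]
    rw [one_smul] at e
    rw [Units.val_mul, Units.val_mul, hu1, hu2, coe_inv_of_eq hN32 hu3, one_smul, e]
    calc (1 + N₁) * (1 + N₂) * (1 - N₃)
        = (1 + (N₁ + N₂) + N₁ * N₂) * (1 - N₃) := by noncomm_ring
      _ = 1 + N₁ * N₂ - N₃ * N₃ - N₁ * N₂ * N₃ := by rw [hsum]; noncomm_ring
      _ = 1 + N₁ * N₂ := by rw [hN32, show N₁ * N₂ * N₃ = 0 from LinearMap.ext hP3]; simp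

/-- A transvection of the trace form. -/
theorem exists_root [Fintype F] (hM : S.Over M) (hr : (finrank F K).Prime)
    (hbig : finrank F K = 2 → 4 < finrank F V) : ∃ c : F, c ≠ 0 ∧ S.Root M w c := by
  set p := S.B x w with hp
  by_cases hq : ∃ c : F, c ≠ 0 ∧ c ≠ 1
  · obtain ⟨c, hc0, hc1⟩ := hq
    refine ⟨c * (1 - c), mul_ne_zero hc0 (sub_ne_zero.2 hc1.symm), InD.root
      (((P.mem_E hM 1 (c • y)).sub P.w_ne (P.mem_E hM c y)).congr fun β => ?_)⟩
    simp only [smul_mul_assoc, map_smul, smul_eq_mul, one_mul, P.y_spec, mul_one]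
    simp only [Algebra.smul_def, map_add, map_mul, map_sub, map_one]
    ring
  push Not at hq
  have h2 : (1 : F) + 1 = 0 := by
    by_contra h
    simpa using hq _ h
  have h2K : (2 : K) = 0 := by
    have := congrArg (algebraMap F K) h2
    rwa [map_add, map_one, map_zero, one_add_one_eq_two] at this
  by_cases hinv : ∃ u : K, S.τ (u * p) ≠ 0 ∧ S.τ (u⁻¹ * p) = 0
  · obtain ⟨u, hu, hu'⟩ := hinv
    exact P.root_of_inv hM hu hu'
  push Not at hinv
  let J : Submodule F K := LinearMap.ker (S.τ ∘ₗ LinearMap.mulRight F p)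
  have hJ : ∀ k, k ∈ J ↔ S.τ (k * p) = 0 := fun k => Iff.rfl
  have hJi : ∀ k ∈ J, k⁻¹ ∈ J := fun k hk => by
    by_contra h
    exact hinv k⁻¹ h ((inv_inv k).symm ▸ hk)
  have h1J : (1 : K) ∈ J := by rw [hJ, one_mul]; exact P.one_spec
  have hua : ∀ a ∈ J, ∀ b ∈ J, a * a * b ∈ J := fun a ha b hb => by
    rcases eq_or_ne a 0 with rfl | ha0
    · simp
    rcases eq_or_ne b 0 with rfl | hb0
    · simp
    by_cases hab : a * b = 1
    · rwa [mul_assoc, hab, mul_one]
    have h3 : b⁻¹ - a ≠ 0 := fun h => hab (by rw [← sub_eq_zero.1 h, inv_mul_cancel₀ hb0])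
    have key : a * a * b = a - (a⁻¹ + (b⁻¹ - a)⁻¹)⁻¹ := by
      have h4 : (1 : K) - a * b ≠ 0 := sub_ne_zero.2 (Ne.symm hab)
      have h5 : a⁻¹ + (b⁻¹ - a)⁻¹ = (a * (1 - a * b))⁻¹ := by
        field_simp
        ring
      rw [h5, inv_inv]
      ring
    rw [key]
    exact J.sub_mem ha (hJi _ (J.add_mem (hJi a ha) (hJi _ (J.sub_mem (hJi b hb) ha))))
  have hsq : ∀ a ∈ J, a * a ∈ J := fun a ha => by simpa using hua a ha 1 h1J
  haveI : Finite K := Module.finite_of_finite F
  let A : Subalgebra F K :=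
    { carrier := J
      one_mem' := h1J
      mul_mem' := fun {a b} ha hb => by
        obtain ⟨⟨e, he⟩, hee⟩ := Finite.surjective_of_injective
          (f := fun e : J => (⟨e.1 * e.1, hsq e.1 e.2⟩ : J)) (fun e e' h => by
            have h := congrArg Subtype.val h
            refine Subtype.ext (sub_eq_zero.1 ?_)
            refine mul_self_eq_zero.1 ?_
            dsimp only at h
            linear_combination h + (e'.1 * e'.1 - e.1 * e'.1) * h2K) ⟨a, ha⟩
        rw [← show e * e = a from congrArg Subtype.val hee]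
        exact hua e he b hb
      zero_mem' := J.zero_mem
      add_mem' := J.add_mem
      algebraMap_mem' := fun a => by
        rw [Algebra.algebraMap_eq_smul_one]
        exact J.smul_mem a h1J }
  haveI := Subalgebra.isSimpleOrder_of_finrank_prime F K hr
  have hA : A = ⊥ := (eq_bot_or_eq_top A).resolve_right fun h => by
    have : y ∈ J := show y ∈ A from h ▸ Algebra.mem_top
    rw [hJ, P.y_spec] at this
    exact one_ne_zero this
  have hle : finrank F K ≤ 2 := by
    classical
    rw [← finrank_top F K, show (⊤ : Submodule F K) = Submodule.span F ↑({1, y} : Finset K) from ?_]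
    · exact (finrank_span_finset_le_card _).trans Finset.card_le_two
    · rw [Finset.coe_pair, eq_comm, eq_top_iff]
      intro k _
      have : k - S.τ (k * p) • y ∈ A := (hJ _).2 (by simp [sub_mul, hp ▸ P.y_spec])
      rw [hA, Algebra.mem_bot] at this
      obtain ⟨a, ha⟩ := this
      exact Submodule.mem_span_pair.2 ⟨a, S.τ (k * p),
        by rw [← Algebra.algebraMap_eq_smul_one, ha, sub_add_cancel]⟩
  have h2r : finrank F K = 2 := le_antisymm hle hr.two_le
  exact ⟨1, one_ne_zero, P.root_of_third hM (by rw [h2r]; exact hbig h2r)⟩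

end Pair

end Cfsg.Agent.H98.ExtSp.Form
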