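import Cfsg.Agent.H98.ExtSp.Hyperplane

/-!
A group over the isometries of a symplectic `K`-form that does not normalise `K` contains every transvection of the
trace form.
-/

set_option autoImplicit false

namespace Cfsg.Agent.H98.ExtSp.Form

open Module Cfsg.Agent.H98.ExtField

variable {F : Type*} [Field F] {K : Type*} [Field K] [Algebra F K]
  {V : Type*} [AddCommGroup V] [Module F V] [Module K V] [IsScalarTower F K V]
  {S : Form F K V} {M : Subgroup (Module.End F V)ˣ}

theorem root_zero (v : V) : S.Root M v 0 := by
  unfold Root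
  convert MN.zero (M := M) using 1
  exact LinearMap.ext fun x => by simp

theorem Root.add {v : V} {a b : F} (ha : S.Root M v a) (hb : S.Root M v b) : S.Root M v (a + b) := by
  unfold Root at *
  convert ha.add hb (LinearMap.ext fun x => by simp [S.f_self]) (LinearMap.ext fun x => by simp [S.f_self]) using 1
  exact LinearMap.ext fun x => by simp [add_mul, add_smul]

theorem Root.neg {v : V} {a : F} (ha : S.Root M v a) : S.Root M v (-a) := by
  unfold Root at *
  convert MN.neg ha using 1
  exact LinearMap.ext fun x => by simp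

variable [Fintype F] [FiniteDimensional F V] [FiniteDimensional F K]

theorem Root.conj (hM : S.Over M) {v : V} {c : F} (h : S.Root M v c) {g : (Module.End F V)ˣ} (hg : g ∈ M) :
    S.Root M ((g : Module.End F V) v) c := by
  unfold Root at *
  have h' := MN.conj h hg
  rw [conj_smulRight] at h'
  convert h' using 2
  refine LinearMap.ext fun x => ?_
  simp only [LinearMap.smul_apply, LinearMap.comp_apply, fL_apply]
  conv_lhs => rw [← apply_inv g x, hM.iso g hg]

theorem Over.root_sq (hM : S.Over M) {v : V} {c : F} (h : S.Root M v c) (a : F) : S.Root M v (a * a * c) := by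
  rcases eq_or_ne v 0 with rfl | hv
  · unfold Root
    convert MN.zero (M := M) using 1
    exact LinearMap.ext fun x => by simp
  rcases eq_or_ne a 0 with rfl | ha
  · rw [mul_zero, zero_mul]
    exact root_zero v
  obtain ⟨g, hgl, hgv⟩ := S.exists_lin hv (smul_ne_zero ha hv)
  have h' := h.conj hM (hM.mem_of_lin hgl)
  rw [hgv] at h'
  unfold Root at *
  convert h' using 1
  refine LinearMap.ext fun x => ?_
  simp [S.f_smul_right, smul_smul]
  ring_nf

theorem Over.root_full (hM : S.Over M) {v : V} {c : F} (h : S.Root M v c) (hc : c ≠ 0) (d : F) :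
    S.Root M v d := by
  let A : AddSubgroup F :=
    { carrier := {s | S.Root M v (s * c)}
      zero_mem' := show S.Root M v (0 * c) by rw [zero_mul]; exact root_zero v
      add_mem' := fun {s t} hs ht => show S.Root M v ((s + t) * c) by rw [add_mul]; exact Root.add hs ht
      neg_mem' := fun {s} hs => show S.Root M v (-s * c) by rw [neg_mul]; exact Root.neg hs }
  have hsq : ∀ a : F, a * a ∈ A := hM.root_sq h
  have hA : ∀ s : F, s ∈ A := fun s => by
    by_cases h2 : (2 : F) = 0
    · obtain ⟨a, ha⟩ := Finite.surjective_of_injective (f := fun a : F => a * a) (fun a b hab => by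
        refine sub_eq_zero.1 (mul_self_eq_zero.1 ?_)
        dsimp only at hab
        linear_combination hab + (b * b - a * b) * h2) s
      exact ha ▸ hsq a
    · rw [show s = (s + 1) / 2 * ((s + 1) / 2) - (s - 1) / 2 * ((s - 1) / 2) by field_simp; ring]
      exact A.sub_mem (hsq _) (hsq _)
  have := hA (d / c)
  rwa [show d = d / c * c from (div_mul_cancel₀ d hc).symm]

/-- `M` contains all the transvections of the trace form. -/
theorem Over.root_all (hM : S.Over M) (hr : (finrank F K).Prime) (hbig : finrank F K = 2 → 4 < finrank F V)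
    {g : (Module.End F V)ˣ} (hg : g ∈ M) {k : K}
    (hne : ∀ k' : K, ∃ x, (g : Module.End F V) (k • ((g⁻¹ : (Module.End F V)ˣ) : Module.End F V) x) ≠ k' • x)
    (v : V) (c : F) : S.Root M v c := by
  obtain ⟨x₀, hx₀⟩ := hne 0
  have hx0 : x₀ ≠ 0 := by
    rintro rfl
    simp at hx₀
  have hlt : finrank F K < finrank F V := by
    by_contra hle
    obtain ⟨z, hz⟩ := S.exists_f_one hx0
    have htop : line F K x₀ = ⊤ := Submodule.eq_top_of_finrank_eq (le_antisymm (Submodule.finrank_le _)
      (by rw [finrank_line hx0]; omega))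
    have := f_line (S := S) (htop.symm ▸ Submodule.mem_top : z ∈ line F K x₀) (self_mem_line x₀)
    rw [hz] at this
    exact one_ne_zero this
  obtain ⟨g₁, hg₁, v₁, u, x, hv₁, -, hxL, hxu, hd⟩ := hM.exists_config hr hlt hg hne
  obtain ⟨w, x, y, P⟩ := hM.exists_pair hg₁ hv₁ hr.two_le hxL hxu hd
  obtain ⟨c₀, hc₀, hroot⟩ := P.exists_root hM hr hbig
  rcases eq_or_ne v 0 with rfl | hv
  · unfold Root
    convert MN.zero (M := M) using 1
    exact LinearMap.ext fun x => by simp
  obtain ⟨t, htl, htw⟩ := S.exists_lin P.w_ne hv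
  exact htw ▸ (hM.root_full hroot hc₀ c).conj hM (hM.mem_of_lin htl)

end Cfsg.Agent.H98.ExtSp.Form
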